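import Mathlib

set_option linter.unusedSectionVars false
set_option linter.unusedVariables false
set_option linter.unusedSimpArgs false
set_option autoImplicit false
set_option linter.style.haveILetI false
set_option maxHeartbeats 400000

/-!
# Schubert conditions and vanishing of minors
-/

namespace Groth.Agent.Helper6.Schubert

open Matrix

variable {K : Type*} [Field K] {n d : ℕ}

theorem mem_span_rows_iff (A : Matrix (Fin d) (Fin n) K) (w : Fin n → K) :
    w ∈ Submodule.span K (Set.range fun i : Fin d => A i) ↔ ∃ x : Fin d → K, x ᵥ* A = w := by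
  have h := range_vecMulLinear A
  rw [Matrix.row_def] at h
  rw [← h]
  simp [LinearMap.mem_range]

/-- forward direction -/
theorem det_eq_zero_of_finrank {V : Submodule K (Fin n → K)} (c : ℕ)
    (hV : ∀ v : Fin n → K, v ∈ V → ∀ l : Fin n, c ≤ (l : ℕ) → v l = 0)
    (A : Matrix (Fin d) (Fin n) K) (i : Fin d)
    (hfin : (i : ℕ) + 1 ≤
      Module.finrank K ↥(Submodule.span K (Set.range fun i : Fin d => A i) ⊓ V))
    (J : Fin d → Fin n) (hJ : StrictMono J) (hc : c ≤ (J i : ℕ)) :
    (A.submatrix id J).det = 0 := by
  classical
  by_contra hdet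
  let g : ↥(Submodule.span K (Set.range fun i : Fin d => A i) ⊓ V) →ₗ[K] (Fin i → K) :=
    { toFun := fun w j => (w : Fin n → K) (J ⟨j, j.2.trans i.2⟩)
      map_add' := by intros; rfl
      map_smul' := by intros; rfl }
  have hg : Function.Injective g := by
    rw [← LinearMap.ker_eq_bot, LinearMap.ker_eq_bot']
    intro w hw
    have hwJ : ∀ j : Fin d, (w : Fin n → K) (J j) = 0 := by
      intro j
      by_cases hj : (j : ℕ) < i
      · have := congrFun hw ⟨j, hj⟩
        simpa [g] using this
      · apply hV _ w.2.2
        have hij : i ≤ j := by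
          rw [Fin.le_def]; omega
        exact hc.trans (Fin.le_def.mp (hJ.monotone hij))
    obtain ⟨x, hx⟩ := (mem_span_rows_iff A _).mp w.2.1
    have hxJ : x ᵥ* (A.submatrix id J) = 0 := by
      ext j
      have := hwJ j
      rw [← hx] at this
      simpa [Matrix.vecMul, dotProduct, Matrix.submatrix] using this
    have hu : IsUnit (A.submatrix id J) := by
      rw [Matrix.isUnit_iff_isUnit_det]
      exact isUnit_iff_ne_zero.mpr hdet
    have hx0 : x = 0 := by
      exact Matrix.vecMul_injective_iff_isUnit.mpr hu (a₁ := x) (a₂ := 0)
        (by simp only [hxJ, Matrix.zero_vecMul])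
    apply Subtype.ext
    rw [← hx, hx0, Matrix.zero_vecMul]
    rfl
  have := LinearMap.finrank_le_finrank_of_injective hg
  simp at this
  omega

/-- backward direction -/
theorem exists_minor_ne_zero {V : Submodule K (Fin n → K)} (c : ℕ)
    (hV : ∀ v : Fin n → K, (∀ l : Fin n, c ≤ (l : ℕ) → v l = 0) → v ∈ V)
    (A : Matrix (Fin d) (Fin n) K) (hA : LinearIndependent K (fun i : Fin d => A i)) (i : Fin d)
    (hfin : Module.finrank K ↥(Submodule.span K (Set.range fun i : Fin d => A i) ⊓ V) ≤ (i : ℕ)) :
    ∃ J : Fin d → Fin n, StrictMono J ∧ c ≤ (J i : ℕ) ∧ (A.submatrix id J).det ≠ 0 := by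
  classical
  -- the columns
  let col : Fin n → (Fin d → K) := A.col
  let S : Set (Fin n) := {l | c ≤ (l : ℕ)}
  -- the submatrix on S
  let AS : Matrix (Fin d) S K := A.submatrix id (Subtype.val : S → Fin n)
  -- kernel of x ↦ x ᵥ* AS injects into W ⊓ V
  have hinj : Function.Injective A.vecMul := Matrix.vecMul_injective_iff.mpr hA
  let g : ↥(LinearMap.ker AS.vecMulLinear) →ₗ[K]
      ↥(Submodule.span K (Set.range fun i : Fin d => A i) ⊓ V) :=
    { toFun := fun x => ⟨(x : Fin d → K) ᵥ* A, by
        refine ⟨(mem_span_rows_iff A _).mpr ⟨x, rfl⟩, hV _ ?_⟩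
        intro l hl
        have h0 : ((x : Fin d → K) ᵥ* AS) ⟨l, hl⟩ = 0 :=
          congrFun (LinearMap.mem_ker.mp x.2) ⟨l, hl⟩
        exact h0⟩
      map_add' := by intro x y; apply Subtype.ext; simp [Matrix.add_vecMul]
      map_smul' := by intro r x; apply Subtype.ext; simp [Matrix.smul_vecMul] }
  have hg : Function.Injective g := by
    intro x y hxy
    have := congrArg Subtype.val hxy
    exact Subtype.ext (hinj this)
  have hker : Module.finrank K ↥(LinearMap.ker AS.vecMulLinear) ≤ (i : ℕ) :=
    (LinearMap.finrank_le_finrank_of_injective hg).trans hfin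
  have hrn := LinearMap.finrank_range_add_finrank_ker AS.vecMulLinear
  simp only [Module.finrank_fin_fun] at hrn
  -- rank of AS
  have hrank : d - (i : ℕ) ≤ AS.rank := by
    have h1 : AS.rank = ASᵀ.rank := (Matrix.rank_transpose AS).symm
    have h2 : ASᵀ.rank = Module.finrank K ↥(LinearMap.range AS.vecMulLinear) := by
      rw [Matrix.rank, Matrix.mulVecLin_transpose]
    rw [h1, h2]; omega
  rw [Matrix.rank_eq_finrank_span_cols] at hrank
  -- span of the columns in S
  have hcolS : Submodule.span K (Set.range AS.col) = Submodule.span K (col '' S) := by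
    congr 1
    ext v
    constructor
    · rintro ⟨l, rfl⟩
      exact ⟨l.1, l.2, rfl⟩
    · rintro ⟨l, hl, rfl⟩
      exact ⟨⟨l, hl⟩, rfl⟩
  rw [hcolS] at hrank
  -- maximal independent subset of S
  have hempty : LinearIndepOn K col (∅ : Set (Fin n)) := linearIndepOn_empty K col
  let s : Set (Fin n) := hempty.extend (Set.empty_subset S)
  have hsS : s ⊆ S := hempty.extend_subset _
  have hsli : LinearIndepOn K col s := hempty.linearIndepOn_extend _
  have hsspan : Submodule.span K (col '' s) = Submodule.span K (col '' S) :=
    hempty.span_image_extend_eq_span_image _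
  let b : Set (Fin n) := hsli.extend (Set.subset_univ s)
  have hsb : s ⊆ b := hsli.subset_extend _
  have hbli : LinearIndepOn K col b := hsli.linearIndepOn_extend _
  have hbspan : Submodule.span K (col '' b) = Submodule.span K (col '' Set.univ) :=
    hsli.span_image_extend_eq_span_image _
  -- cardinalities
  have hscard : s.toFinset.card = Module.finrank K ↥(Submodule.span K (col '' S)) := by
    rw [← hsspan]
    have := linearIndependent_iff_card_eq_finrank_span.mp hsli
    rw [Set.finrank] at this
    have hr : Set.range (fun x : s => col x) = col '' s := by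
      ext v; simp
    rw [hr] at this
    rw [← this, Set.toFinset_card]
  have hbcard : b.toFinset.card = d := by
    have := linearIndependent_iff_card_eq_finrank_span.mp hbli
    rw [Set.finrank] at this
    have hr : Set.range (fun x : b => col x) = col '' b := by
      ext v; simp
    rw [hr, hbspan, Set.image_univ] at this
    rw [Set.toFinset_card, this]
    have h3 : A.rank = d := by
      have := LinearIndependent.rank_matrix (M := A) hA
      simpa using this
    exact (Matrix.rank_eq_finrank_span_cols A).symm.trans h3
  -- the order embedding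
  let J : Fin d ↪o Fin n := b.toFinset.orderEmbOfFin hbcard
  have hJmem : ∀ j, J j ∈ b := fun j => by
    have := Finset.orderEmbOfFin_mem b.toFinset hbcard j
    exact Set.mem_toFinset.mp this
  have hJrange : Set.range J = b := by
    have := Finset.range_orderEmbOfFin b.toFinset hbcard
    simp [J]
  refine ⟨J, J.strictMono, ?_, ?_⟩
  · -- c ≤ J i
    by_contra hlt
    rw [not_le] at hlt
    -- all j ≤ i have J j ∉ S
    have hsub : s.toFinset ⊆ (Finset.univ.filter (fun j : Fin d => i < j)).image J := by
      intro l hl
      have hl' : l ∈ s := by simpa using hl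
      have hlb : l ∈ b := hsb hl'
      rw [← hJrange] at hlb
      obtain ⟨j, rfl⟩ := hlb
      refine Finset.mem_image.mpr ⟨j, ?_, rfl⟩
      simp only [Finset.mem_filter, Finset.mem_univ, true_and]
      by_contra hji
      rw [not_lt] at hji
      have h1 : (J j : ℕ) ≤ J i := Fin.le_def.mp (J.monotone hji)
      have h2 : c ≤ (J j : ℕ) := hsS hl'
      omega
    have hc1 := Finset.card_le_card hsub
    have hc2 : ((Finset.univ.filter (fun j : Fin d => i < j)).image J).card ≤ d - (i : ℕ) - 1 := by
      refine Finset.card_image_le.trans ?_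
      have : (Finset.univ.filter (fun j : Fin d => i < j)) = Finset.Ioi i := by
        ext j; simp
      rw [this, Fin.card_Ioi]
      omega
    have hi := i.2
    omega
  · -- determinant nonzero
    have hli : LinearIndependent K (A.submatrix id J).col := by
      have h1 : (A.submatrix id J).col = col ∘ J := by
        ext j r; rfl
      rw [h1]
      have h2 : LinearIndependent K (fun x : b => col x) := hbli
      let e : Fin d → b := fun j => ⟨J j, hJmem j⟩
      have he : Function.Injective e := fun j j' h => by
        have h' : J j = J j' := congrArg (fun z : b => (z : Fin n)) h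
        exact J.injective h'
      exact h2.comp e he
    have := Matrix.linearIndependent_cols_iff_isUnit.mp hli
    rw [Matrix.isUnit_iff_isUnit_det] at this
    exact this.ne_zero

end Groth.Agent.Helper6.Schubert
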